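import Cfsg.Agent.LT.QN2

set_option autoImplicit false

namespace Cfsg.Agent.LT

open Subgroup H29 LS
open scoped commutatorElement

namespace Dat

variable {G : Type*} [Group G] [Finite G] {δ : Dat G}

omit [Finite G] in
theorem Fn.e_ok {g τ : G} (h : δ.Fn g τ) : δ.OK := h.ci.1.ok

omit [Finite G] in
theorem Fn.e_lam {g τ : G} (h : δ.Fn g τ) (ρ : F) : Lam δ.e ρ := Or.inl h.ci.2

theorem Fn.e_DQ {g τ : G} (h : δ.Fn g τ) {d : G} {v : V4} (hd : δ.InD d v) (e : sg v = v) :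
    d ∈ δ.Qg := h.mem_Qg.2 ⟨v, e, Or.inl hd⟩

theorem Fn.e_CQ {g τ : G} (h : δ.Fn g τ) (c : F) : δ.C c ∈ δ.Qg :=
  h.e_DQ (h.e_ok.InD_C c) (by decide)

theorem Fn.e_tauQ {g τ : G} (h : δ.Fn g τ) : τ ∈ δ.Qg :=
  h.mem_Qg.2 ⟨0, by decide, Or.inr (by rw [h.toHp.sq, ← δ.C_zero]; exact h.e_ok.InD_C 0)⟩

omit [Finite G] in
theorem Fn.e_ncz {g τ : G} (h : δ.Fn g τ) : ¬ δ.CZ τ := fun c => by
  have e := h.tC ω
  rw [(c ω).eq, mul_inv_cancel_right] at e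
  exact absurd (h.e_ok.C_inj e) (by decide)

omit [Finite G] in
theorem e_z_sq (δ : Dat G) : δ.z * δ.z = 1 := δ.C_sq 1

omit [Finite G] in
theorem OK.e_z_ord (ok : δ.OK) : orderOf δ.z = 2 := H15.orderOf_two ok.z_ne δ.e_z_sq

/-- elements of `C(Z)` that fix the involutions of `Q` modulo `z` act trivially on `D / Z` -/
theorem Fn.e_id {g τ : G} (h : δ.Fn g τ) {q : G} (hq : δ.CZ q)
    (fx : ∀ s ∈ δ.Qg, s * s = 1 → q * s * q⁻¹ = s ∨ q * s * q⁻¹ = s * δ.z) : δ.Ac q id := by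
  have ok := h.e_ok
  obtain ⟨i, hi⟩ := h.nr q hq
  refine hi.congr (ev_five fun v hv e => ?_)
  obtain ⟨d, hd⟩ := ok.exists_InD (v := v) (h.e_lam _)
  have d2 : d * d = 1 := by rw [ok.InD_sq hd, hv.2.1, δ.C_zero]
  have a := hi d v hd
  rcases fx d (h.e_DQ hd e) d2 with e' | e' <;> rw [e'] at a
  · exact ok.InD_uniq a hd
  · have := ok.InD_mul hd (ok.InD_C 1)
    rw [add_zero] at this
    exact ok.InD_uniq a this

/-- the centraliser of `Q` -/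
theorem Fn.e_cenQ {g τ : G} (h : δ.Fn g τ) {n : G} (c : ∀ a ∈ δ.Qg, n * a = a * n) :
    ∃ o, δ.Od o ∧ (n = o ∨ n = δ.z * o) := by
  have ok := h.e_ok
  have cz : δ.CZ n := fun x => c _ (h.e_CQ x)
  obtain ⟨d, v, o, hd, ho, rfl⟩ := ok.ker cz (h.e_id cz fun s hs _ =>
    Or.inl (by rw [c s hs, mul_inv_cancel_right]))
  have cd : ∀ a ∈ δ.Qg, δ.CO a → d * a = a * d := fun a ha co => by
    have e := c a ha
    rw [mul_assoc, ← (co o ho).eq, ← mul_assoc, ← mul_assoc] at e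
    exact mul_right_cancel e
  have v0 : v = 0 := b4_fix fun w hw => by
    obtain ⟨d', hd'⟩ := ok.exists_InD (v := w) (h.e_lam _)
    have e := ok.InD_comm hd hd'
    rw [cd d' (h.e_DQ hd' hw) hd'.co, mul_inv_cancel_right] at e
    have : δ.C (b4 v w) = δ.C 0 := by
      rw [δ.C_zero]; exact (mul_eq_left.1 e.symm)
    exact ok.C_inj this
  subst v0
  obtain ⟨x, rfl⟩ := ok.InD_zero hd
  have e := h.tC x
  rw [← cd τ h.e_tauQ h.toHp.co', mul_inv_cancel_right] at e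
  have e' := ok.C_inj e
  have : x = 0 ∨ x = 1 := (by decide : ∀ x : F, x = x * x → x = 0 ∨ x = 1) x e'
  rcases this with rfl | rfl
  · exact ⟨o, ho, Or.inl (by rw [δ.C_zero, one_mul])⟩
  · exact ⟨o, ho, Or.inr rfl⟩

theorem Fn.e_Qco {g τ : G} (h : δ.Fn g τ) {a : G} (ha : a ∈ δ.Qg) : δ.CO a := by
  obtain ⟨v, -, e | e⟩ := h.mem_Qg.1 ha
  · exact e.co
  · have := h.toHp.co'.inv.mul e.co
    rwa [inv_mul_cancel_left] at this

theorem Fn.e_Od_iff {g τ : G} (h : δ.Fn g τ) {n : G} :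
    δ.Od n ↔ (∀ a ∈ δ.Qg, n * a = a * n) ∧ Odd (orderOf n) := by
  refine ⟨fun ho => ⟨fun a ha => (h.e_Qco ha n ho).symm.eq, ho.2.2⟩, fun ⟨c, od⟩ => ?_⟩
  obtain ⟨o, ho, e | e⟩ := h.e_cenQ c
  · rwa [e]
  · exfalso
    have cz : Commute δ.z o := (mem_Kc.1 ho.1 _).symm
    have e1 : n ^ (orderOf n * orderOf o) = 1 := by rw [pow_mul, pow_orderOf_eq_one, one_pow]
    obtain ⟨k, hk⟩ := od.mul ho.2.2
    have e2 : o ^ (orderOf n * orderOf o) = 1 := by rw [pow_mul', pow_orderOf_eq_one, one_pow]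
    generalize orderOf n * orderOf o = m at *
    rw [e, cz.mul_pow, e2, mul_one, hk, pow_succ, pow_mul, pow_two, δ.e_z_sq, one_pow,
      one_mul] at e1
    exact h.e_ok.z_ne e1

/-- the subgroup `O` -/
def OK.e_O (ok : δ.OK) : Subgroup G where
  carrier := {o | δ.Od o}
  mul_mem' := ok.Od_mul
  one_mem' := ⟨one_mem _, fun _ _ => Commute.one_left _, by simp⟩
  inv_mem' := Od.inv

theorem Fn.e_cN {g τ : G} (h : δ.Fn g τ) {n : G} (c : Commute n δ.z) :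
    n ∈ normalizer (h.e_ok.e_O : Set G) := by
  refine mem_normalizer_fintype fun o ho => ?_
  obtain ⟨h1, h2⟩ := h.e_Od_iff.1 ho
  refine h.e_Od_iff.2 ⟨fun a ha => ?_, ?_⟩
  · have := h1 _ ((mem_normalizer_iff.1 (inv_mem (h.norm c)) a).1 ha)
    calc n * o * n⁻¹ * a = n * (o * (n⁻¹ * a * n⁻¹⁻¹)) * n⁻¹ := by group
      _ = a * (n * o * n⁻¹) := by rw [this]; group
  · have := (MulAut.conj n).orderOf_eq o
    rw [MulAut.conj_apply] at this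
    rwa [this]

theorem OK.e_coN (ok : δ.OK) {n : G} (c : δ.CO n) : n ∈ normalizer (ok.e_O : Set G) :=
  mem_normalizer_fintype fun o ho => by rw [(c o ho).eq, mul_inv_cancel_right]; exact ho

/-- the conjugates of `z` which commute with `z` -/
theorem Fn.e_conj {g τ : G} (h : δ.Fn g τ) {S : Sylow 2 G} (hS : ∀ s ∈ S, δ.MM s) {y : G}
    (c : Commute (y * δ.z * y⁻¹) δ.z) : ∃ n m, Commute n δ.z ∧ δ.CO m ∧
      n * (y * δ.z * y⁻¹) * n⁻¹ = m * δ.z * m⁻¹ ∧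
      (y * δ.z * y⁻¹ ≠ δ.z → ∃ m', m' * δ.z * m'⁻¹ = δ.z * (m * δ.z * m⁻¹)) := by
  have ok := h.e_ok
  have : Fact (Nat.Prime 2) := ⟨Nat.prime_two⟩
  have sy : H91.SylIn 2 (S : Subgroup G) (centralizer ({δ.z} : Set G)) :=
    (H91.sylIn_top S).of_le (fun s hs => mem_centralizer_singleton_iff.2 (hS s hs).2) le_top
  have y2 : y * δ.z * y⁻¹ * (y * δ.z * y⁻¹) = 1 := by
    rw [show y * δ.z * y⁻¹ * (y * δ.z * y⁻¹) = y * (δ.z * δ.z) * y⁻¹ by group, δ.e_z_sq]; group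
  obtain ⟨n, hn, hi⟩ := STD.exists_conj_mem sy (mem_centralizer_singleton_iff.2 c) (k := 1)
    (by rw [pow_one, pow_two, y2])
  have nz : Commute n δ.z := mem_centralizer_singleton_iff.1 hn
  have nd : ¬ DD δ.ι (n * (y * δ.z * y⁻¹) * n⁻¹) := by
    have := ok.nDD_L (n * y) (u 0 0 1)
    rwa [show n * y * δ.ι (u 0 0 1) * (n * y)⁻¹ = n * (y * δ.z * y⁻¹) * n⁻¹ by
      rw [show δ.z = δ.ι (u 0 0 1) from rfl]; group] at this
  have ne : y * δ.z * y⁻¹ ≠ δ.z → n * (y * δ.z * y⁻¹) * n⁻¹ ≠ δ.z := fun a b => a (by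
    calc y * δ.z * y⁻¹ = n⁻¹ * (n * (y * δ.z * y⁻¹) * n⁻¹) * n := by group
      _ = δ.z := by rw [b, mul_assoc, ← nz.eq, inv_mul_cancel_left])
  generalize hi' : n * (y * δ.z * y⁻¹) * n⁻¹ = i at hi nd ne
  have i2 : i * i = 1 := by
    rw [← hi', show n * (y * δ.z * y⁻¹) * n⁻¹ * (n * (y * δ.z * y⁻¹) * n⁻¹) =
      n * (y * δ.z * y⁻¹ * (y * δ.z * y⁻¹)) * n⁻¹ by group, y2]; group
  have i1 : i ≠ 1 := fun e => ok.z_ne (by
    calc δ.z = y⁻¹ * n⁻¹ * (n * (y * δ.z * y⁻¹) * n⁻¹) * n * y := by group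
      _ = 1 := by rw [hi', e]; group)
  have mi := hS i hi
  rcases h.toHp.cl i2 i1 mi (h.ev mi) with ⟨a, -⟩ | ⟨-, ⟨v, a⟩ | ⟨m, v, a, e⟩⟩
  · exact absurd a nd
  · obtain ⟨m, co, e⟩ := h.ci.conj_z a i2 i1 nd
    refine ⟨n, m, nz, co, hi'.trans e, fun b => ?_⟩
    have a' := ok.InD_mul (ok.InD_C 1) a
    rw [zero_add] at a'
    obtain ⟨m', -, e'⟩ := h.ci.conj_z a' (by
        rw [show δ.C 1 = δ.z from rfl, mul_assoc, ← mul_assoc i, mi.2.eq, mul_assoc, i2, mul_one,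
          δ.e_z_sq])
      (fun e => ne b (by
        rw [show δ.C 1 = δ.z from rfl, ← δ.e_z_sq] at e
        exact mul_left_cancel e))
      (fun d => nd ((h.ci.DV_iff a).2 ((h.ci.DV_iff a').1 d)))
    exact ⟨m', by rw [← e', ← e]; rfl⟩
  · obtain ⟨m', co, e'⟩ := h.toHp.tau_z
    refine ⟨n, m * m', nz, a.co.mul co, by rw [hi', e, e']; group, fun _ => ?_⟩
    have e1 : δ.C ω * τ * (δ.C ω)⁻¹ = δ.z * τ := by
      have t := h.tC ω
      calc δ.C ω * τ * (δ.C ω)⁻¹ = δ.C ω * (τ * δ.C ω * τ⁻¹) * τ := by rw [δ.C_inv]; group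
        _ = δ.z * τ := by
          rw [t, ← δ.C_add, show ω + ω * ω = (1 : F) by decide]; rfl
    have mz : m * δ.z = δ.z * m := (ok.InD_cz a 1).eq
    refine ⟨m * δ.C ω * m', ?_⟩
    calc m * δ.C ω * m' * δ.z * (m * δ.C ω * m')⁻¹
        = m * (δ.C ω * (m' * δ.z * m'⁻¹) * (δ.C ω)⁻¹) * m⁻¹ := by group
      _ = (m * δ.z) * τ * m⁻¹ := by rw [← e', e1]; group
      _ = δ.z * (m * m' * δ.z * (m * m')⁻¹) := by rw [mz, e']; group

theorem Fn.od [IsSimpleGroup G] {g τ : G} (h : δ.Fn g τ) {o : G} (ho : δ.Od o) : o = 1 := by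
  have ok := h.e_ok
  obtain ⟨S, -, DS, hS⟩ := h.toHp.sy (Y := ⊥) IsPGroup.of_bot (fun y hy => by
    rw [mem_bot.1 hy, ← δ.C_zero]; exact (ok.InD_cz (ok.InD_C 0)).mm)
  have o2 : ∀ a b : F, a * b = 0 → (a ≠ 0 ∨ b ≠ 0) → orderOf (δ.U a b 0) = 2 := fun a b e n =>
    H15.orderOf_two (fun e' => by
      obtain ⟨e1, e2, -⟩ := ok.U_inj (e'.trans δ.U_zero.symm)
      exact n.elim (· e1) (· e2))
      (by rw [δ.U_mul, SA.two, SA.two, e, add_zero, add_zero, δ.U_zero])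
  have top := STD.zd_top (M := normalizer (ok.e_O : Set G)) ok.e_z_ord (fun s hs => (hS s hs).2)
    (DS (ok.mem_Dg.2 ⟨0, ok.InD_C 1⟩))
    (fun y c => by
      obtain ⟨n, m, nz, co, e, -⟩ := h.e_conj hS c
      have c1 : Commute (m⁻¹ * n * y) δ.z := by
        calc m⁻¹ * n * y * δ.z = m⁻¹ * (n * (y * δ.z * y⁻¹) * n⁻¹) * n * y := by group
          _ = δ.z * (m⁻¹ * n * y) := by rw [e]; group
      have := mul_mem (mul_mem (inv_mem (h.e_cN nz)) (ok.e_coN co)) (h.e_cN c1)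
      simpa [mul_assoc] using this)
    (fun y c ne => by
      obtain ⟨n, m, nz, -, e, e'⟩ := h.e_conj hS c
      obtain ⟨m', e'⟩ := e' ne
      refine ⟨n⁻¹ * m', ?_⟩
      calc n⁻¹ * m' * δ.z * (n⁻¹ * m')⁻¹ = n⁻¹ * (m' * δ.z * m'⁻¹) * n := by group
        _ = n⁻¹ * (δ.z * n) * (y * δ.z * y⁻¹) := by rw [e', ← e]; group
        _ = δ.z * (y * δ.z * y⁻¹) := by rw [← nz.eq]; group)
    (o2 1 0 (by decide) (by decide)) (o2 0 1 (by decide) (by decide)) (by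
      have : Fact (Nat.Prime 2) := ⟨Nat.prime_two⟩
      have e : δ.U 1 0 0 * δ.U 0 1 0 * (δ.U 1 0 0 * δ.U 0 1 0) = δ.z := by
        rw [δ.U_mul, δ.U_mul]
        exact congrArg δ.ι (by congr 1 <;> decide)
      exact orderOf_eq_prime_pow (p := 2) (n := 1) (by rw [pow_one, pow_two, e]; exact ok.z_ne)
        (by rw [pow_succ, pow_mul, pow_one, pow_two, pow_two, e, δ.e_z_sq]))
  rcases (normalizer_eq_top_iff.1 top).eq_bot_or_eq_top with e | e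
  · exact mem_bot.1 (e ▸ (show o ∈ ok.e_O from ho))
  · have : δ.Od δ.z := (e.ge (mem_top δ.z) : δ.z ∈ ok.e_O)
    have := this.2.2
    rw [ok.e_z_ord] at this
    exact absurd this (by decide)

end Dat

end Cfsg.Agent.LT
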