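import Cfsg.Agent.LT.LemA
import Cfsg.Agent.S1911
import Cfsg.Agent.STD.Top

set_option autoImplicit false
set_option linter.unusedVariables false
set_option linter.unusedSectionVars false

namespace Cfsg.Agent.LT

open Subgroup H29 LS
open scoped commutatorElement

namespace LC

open LT.LA

variable {G : Type*} [Group G] [Finite G] {ι ι' : P →* G}

theorem u_eq {a b c a' b' c' : F} (e : a = a' ∧ b = b' ∧ c = c') : u a b c = u a' b' c' := by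
  rw [e.1, e.2.1, e.2.2]

/-- some conjugate of `L` has an inner pair -/
def Gd (ι : P →* G) : Prop :=
  ∃ (ι' : P →* G) (t : G), Fr ι ι' ∧ t ∈ Kc ι' ∧ t * t = 1 ∧ t ≠ 1 ∧ DD ι' (t * ι' (u 0 0 1))

theorem Gd.of (f : Fr ι ι') : Gd ι' → Gd ι := fun ⟨j, t, f', r⟩ => ⟨j, t, f.trans f', r⟩

theorem fin (h : Hy ι) {t : G} (ht : t ∈ Kc ι) (t2 : t * t = 1) (t1 : t ≠ 1) {l : P} (l2 : l * l = 1) (l1 : l ≠ 1)
    (hd : DD ι (t * ι l)) : Gd ι := by
  obtain ⟨g, e⟩ := inv_conj l2 l1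
  have f := Fr.tw ι (MulAut.conj g⁻¹)
  refine ⟨_, t, f, by rwa [Kc_tw], t2, t1, ?_⟩
  rw [← e, tw_apply]
  simpa [mul_assoc] using hd.fr f

theorem case2 (h : Hy ι) (f : Fr ι ι') {s : G} (hs : s ∈ Kc ι') (s2 : s * s = 1) (s1 : s ≠ 1) {β : MulAut P}
    (e : ∀ q, s * ι q * s⁻¹ = ι (β q)) (hz : β (u 0 0 1) = u 0 0 1) {q : P} (hq : β q * q⁻¹ = u 0 0 1) {l : P} {κ : G}
    (hκ : κ ∈ Kc ι') (e1 : ι (u 0 0 1) = ι' l * κ) : Gd ι' := by
  have h' := h.fr f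
  have z2 : ι (u 0 0 1) * ι (u 0 0 1) = 1 := by rw [← map_mul, c_sq, map_one]
  obtain ⟨l, κ, hκ, e1', l2, κ2⟩ := h'.nrm1 hκ (e1 ▸ z2)
  replace e1 := e1.trans e1'
  have c : Commute s κ := by
    rw [eq_inv_mul_of_mul_eq e1.symm]
    exact (mem_Kc.1 hs l).inv_right.mul_right (mul_inv_eq_iff_eq_mul.1 (by rw [e, hz]))
  have e2 : s * κ * ι' l = ι q * s * (ι q)⁻¹ := by
    rw [mul_assoc, (mem_Kc.1 hκ l).eq, ← e1, ← hq, map_mul, map_inv, ← e, ← mul_assoc, ← mul_assoc, ← mul_assoc, s2,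
      one_mul, inv_eq_of_mul_eq_one_right s2]
  have hd : DD ι' (s * κ * ι' l) := e2 ▸ (DD.of_mem (Fr.refl ι') hs s2 s1).conj _
  refine fin h' (mul_mem hs hκ) (by rw [← pow_two, c.mul_pow, pow_two, pow_two, s2, κ2, one_mul]) (fun e3 => ?_) l2
    (fun e3 => h.nz (DD.of_mem f ?_ z2 fun e => z_ne (h.inj (e.trans (map_one ι).symm)))) hd
  · rw [e3, one_mul] at hd
    exact h'.not_DD (Fr.refl _) l hd
  · rwa [e1, e3, map_one, one_mul]

theorem case3 {ι₂ : P →* G} (h2 : Hy ι₂) (f2 : Fr ι₂ ι') {s : G} (hs : s ∈ Kc ι') (s2 : s * s = 1) (s1 : s ≠ 1)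
    {j k : Bool} (hx : ¬ (j = false ∧ k = false))
    (e5 : ∀ q, s * ι₂ q * s⁻¹ = ι₂ ((⟨0, 0, 0, j, k⟩ : SA).autS q)) : Gd ι' := by
  have cN : ∀ q, (⟨0, 0, 0, j, k⟩ : SA).autS q = q → ι₂ q ∈ Nn ι' := fun q e =>
    (h2.fr f2).cent hs s2 s1 (Commute.symm (mul_inv_eq_iff_eq_mul.1 (by rw [e5, e])))
  have A : ∀ c, (⟨0, 0, 0, j, k⟩ : SA).autS (u 1 1 c) = u 1 1 c →
      ∃ l, ∃ κ ∈ Kc ι', ι₂ (u 0 0 1) = ι' l * κ := fun c e => by
    have := (h2.fr f2).inner_sq (cN _ e) (n := 1) (by rw [← map_mul, u_sq, pow_one, pow_two, ← map_mul, c_sq, map_one])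
    rwa [← map_mul, u_sq, mul_one] at this
  cases j <;> cases k
  · exact absurd ⟨rfl, rfl⟩ hx
  · have e6 : ⁅ι₂ hh, ι₂ (u 0 0 (ω * ω))⁆ = ι₂ (u 0 0 1) := by
      rw [← map_commutatorElement, commutatorElement_def, hh_u, LT.M49.u_inv, u_mul]; exact congrArg ι₂ (u_eq (by decide))
    obtain ⟨l, κ, hκ, e7⟩ := (h2.fr f2).inner_comm (cN hh (by simp [SA.autS, u_zero, gr_hh]))
      (cN (u 0 0 (ω * ω)) (by rw [aut_u]; exact u_eq (by decide))) (n := 1) (by rw [e6, pow_one, pow_two, ← map_mul, c_sq, map_one])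
    exact case2 h2 f2 hs s2 s1 e5 (by rw [aut_u]; exact u_eq (by decide)) (q := u 1 1 0) (by rw [aut_u, LT.M49.u_inv, u_mul]; exact u_eq (by decide)) hκ
      (e6 ▸ e7)
  · obtain ⟨l, κ, hκ, e7⟩ := A 0 (by rw [aut_u]; exact u_eq (by decide))
    exact case2 h2 f2 hs s2 s1 e5 (by rw [aut_u]; exact u_eq (by decide)) (q := u 0 0 ω) (by rw [aut_u, LT.M49.u_inv, u_mul]; exact u_eq (by decide)) hκ e7
  · obtain ⟨l, κ, hκ, e7⟩ := A ω (by rw [aut_u]; exact u_eq (by decide))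
    exact case2 h2 f2 hs s2 s1 e5 (by rw [aut_u]; exact u_eq (by decide)) (q := u 0 0 ω) (by rw [aut_u, LT.M49.u_inv, u_mul]; exact u_eq (by decide)) hκ e7

theorem frame {s : G} {β : MulAut P} {x y z : SA} (e1 : ∀ q, s * tw ι β q * s⁻¹ = tw ι β (x.autS q))
    (e : y * x * y⁻¹ = z) (q : P) : s * tw ι (β * y.autS⁻¹) q * s⁻¹ = tw ι (β * y.autS⁻¹) (z.autS q) := by
  have e6 : (y * x * y⁻¹).autS * y.autS = y.autS * x.autS := by rw [← aut_mul, inv_mul_cancel_right, aut_mul]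
  rw [← e, eq_mul_inv_of_mul_eq e6]
  simpa [tw_apply] using e1 (y.autS⁻¹ q)

theorem main (h : Hy ι) (f : Fr ι ι') {s : G} (hs : s ∈ Kc ι') (s2 : s * s = 1) (s1 : s ≠ 1) (hn : s ∈ Nn ι)
    (hk : s ∉ Kc ι) : Gd ι := by
  obtain ⟨p, l, m, φ, e1, -, e3⟩ := h.sa (Y := zpowers s)
    (IsPGroup.of_card (n := 1) (by rw [Nat.card_zpowers, orderOf_eq_prime (by rwa [pow_two]) s1]; rfl))
    (zpowers_le.2 hn)
  generalize MulAut.conj p * dg l m = β at e1 e3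
  have x2 : φ ⟨s, mem_zpowers s⟩ * φ ⟨s, mem_zpowers s⟩ = 1 := by
    rw [← map_mul, show (⟨s, _⟩ * ⟨s, _⟩ : zpowers s) = 1 from Subtype.ext s2, map_one]
  replace e1 := e1 ⟨s, mem_zpowers s⟩
  replace e3 := e3 ⟨s, mem_zpowers s⟩
  generalize φ ⟨s, mem_zpowers s⟩ = x at e1 e3 x2
  have hd := DD.of_mem f hs s2 s1
  by_cases hx : x.inT
  · obtain ⟨κ, hκ, e⟩ := e3 hx
    rw [tw_apply] at e
    generalize β _ = l at e
    replace e : s = ι l * κ := e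
    obtain ⟨l, κ, hκ, e', l2, κ2⟩ := h.nrm1 hκ (e ▸ s2)
    replace e := e.trans e'
    refine fin h hκ κ2 (fun e1 => h.not_DD (Fr.refl ι) l ?_) l2 (fun e1 => hk ?_) ?_
    · rwa [e, e1, mul_one] at hd
    · rwa [e, e1, map_one, one_mul]
    · rwa [(mem_Kc.1 hκ l).eq, ← e]
  obtain ⟨y, -, e4⟩ := SA.O1 x2 hx
  have f2 := Fr.tw ι (β * y.autS⁻¹)
  have h2 := h.fr f2
  replace f2 := f2.symm.trans f
  exact (case3 h2 f2 hs s2 s1 hx (frame e1 e4)).of f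

theorem hy (L : Subgroup G) (hL : Cfsg.IsStandardSubgroup L) (inj : Function.Injective ι) (r : ι.range = L) :
    Hy ι := by
  subst r
  refine ⟨inj, fun g k hk k2 k1 hg => by_contra fun n => ?_, fun g c => ?_, ?_⟩
  · refine (hL.2.1.2 g (hL.2.2.2 ▸ n)).not_two_dvd_nat ?_
    rw [← H8.orderOf_two_of k2 k1, ← (MulAut.conj g).orderOf_eq]
    exact orderOf_dvd_natCard _ ⟨hg, _, hk, rfl⟩
  · by_cases e : ι.range.map (MulAut.conj g).toMonoidHom = ι.range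
    · obtain ⟨_, ⟨p, rfl⟩, e1⟩ := e.ge ⟨u 0 1 0, rfl⟩
      have e2 := c (u 1 0 0) p
      rw [show g * ι p * g⁻¹ = ι (u 0 1 0) from e1] at e2
      have e3 : u 1 0 0 * u 0 1 0 = u 0 1 0 * u 1 0 0 := inj (by simpa using e2.eq)
      rw [u_mul, u_mul] at e3
      exact absurd (u_inj e3).2.2 (by decide)
    · refine hL.2.2.1 g e (commutator_eq_bot_iff_le_centralizer.2 ?_)
      rintro _ ⟨p, rfl⟩ _ ⟨_, ⟨p', rfl⟩, rfl⟩
      exact (c p p').symm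
  · obtain ⟨k, hk, o⟩ := H43.exists_inv_of_even hL.2.1.1
    exact ⟨k, hk, (sq k).symm.trans (o ▸ pow_orderOf_eq_one k), fun e => by simp [e] at o⟩

theorem le_of_normal {J N : Subgroup G} (a : Amb ι J) (hN : N.Normal) {k : G} (hk : k ∈ N) (k1 : k ≠ 1) :
    J ≤ N := by
  have := a.simple
  rcases (hN.subgroupOf J).eq_bot_or_eq_top with c | c
  · refine absurd (mem_bot.1 (a.cen ▸ mem_centralizer_iff.2 fun j hj => ?_)) k1
    exact (commute_of_normal_of_disjoint N J hN a.nrm (subgroupOf_eq_bot.1 c) k j hk hj).symm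
  · exact subgroupOf_eq_top.1 c

theorem nK (h : Hy ι) : normalizer (Kc ι : Set G) = Nn ι := by
  obtain ⟨k, hk, k2, k1⟩ := h.ev
  exact le_antisymm (fun g hg => h.ti g k hk k2 k1 ((mem_normalizer_iff.1 hg k).1 hk))
    fun g hg => mem_normalizer_iff.2 fun x => ⟨Kc_conj hg, fun e => by
      simpa [mul_assoc] using Kc_conj (inv_mem hg) e⟩

end LC

theorem exists_good {G : Type*} [Group G] [Finite G] {ι : P →* G} (h : Hy ι) {J : Subgroup G}
    (a : Amb ι J) : LC.Gd ι := by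
  have : Fact (Nat.Prime 2) := ⟨Nat.prime_two⟩
  obtain ⟨k0, hk0, k2, k1⟩ := h.ev
  have n1 : ∀ {p}, p ≠ 1 → ι p ≠ 1 := fun n e => n (h.inj (e.trans (map_one ι).symm))
  have te : Cfsg.IsTightlyEmbedded (Kc ι) := by
    refine ⟨even_iff_two_dvd.2 (H8.orderOf_two_of k2 k1 ▸ orderOf_dvd_natCard _ hk0), fun g hg => ?_⟩
    by_contra n
    obtain ⟨s, ⟨hs, k, hk, rfl⟩, o⟩ := H43.exists_inv_of_even (Nat.not_odd_iff_even.1 n)
    replace o : orderOf k = 2 := ((MulAut.conj g).orderOf_eq k).symm.trans o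
    exact hg (LC.nK h ▸ h.ti g k hk ((sq k).symm.trans (o ▸ pow_orderOf_eq_one k)) (fun e => by simp [e] at o) hs)
  obtain ⟨g, hgg⟩ : ∃ g, ¬ (g ∉ _ → _) := not_forall.1 fun b => by
    rcases S1911.result _ te b with b | b
    · exact LA.z_ne (h.LKu (LC.le_of_normal a b hk0 k1 (a.le ⟨_, rfl⟩)))
    · have c := a.le.trans (LC.le_of_normal a
        (inferInstance : (normalClosure (Kc ι : Set G)).Normal) (subset_normalClosure hk0) k1)
      have o : ∀ a b : F, a * b = 0 → ¬ (a = 0 ∧ b = 0) → orderOf (ι (u a b 0)) = 2 := fun a b e n =>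
        H8.orderOf_two_of (by rw [← map_mul, LA.u_sq, e, u_zero, map_one])
          (n1 fun e => n ⟨(LA.u_one e).1, (LA.u_one e).2.1⟩)
      refine STD.not_se (a := ⟨ι (u 1 0 0), c ⟨_, rfl⟩⟩) (b := ⟨ι (u 0 1 0), c ⟨_, rfl⟩⟩)
        ((orderOf_coe _).symm.trans (o _ _ (by decide) (by decide)))
        ((orderOf_coe _).symm.trans (o _ _ (by decide) (by decide))) ((orderOf_coe _).symm.trans ?_) b
      change orderOf (ι (u 1 0 0) * ι (u 0 1 0)) = _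
      rw [← map_mul, u_mul]
      exact orderOf_eq_prime_pow (p := 2) (n := 1)
        (by rw [pow_one, sq, ← map_mul, LA.u_sq]; exact n1 fun e => absurd (LA.u_one e).2.2 (by decide))
        (by rw [pow_succ, pow_mul, pow_one, sq, sq, ← map_mul, LA.u_sq, ← map_mul, LA.c_sq, map_one])
  obtain ⟨hg, hodd⟩ := Classical.not_imp.1 hgg
  obtain ⟨s, ⟨⟨k, hk, rfl⟩, hs⟩, o⟩ := H43.exists_inv_of_even (Nat.not_odd_iff_even.1 hodd)
  rw [LC.nK h] at hg hs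
  have s2 : g * k * g⁻¹ * (g * k * g⁻¹) = 1 := (sq _).symm.trans (o ▸ pow_orderOf_eq_one _)
  have s1 : g * k * g⁻¹ ≠ 1 := fun e => by simpa using o.symm.trans (orderOf_eq_one_iff.2 e)
  exact LC.main h (Fr.cj ι g) (mem_Kc_cj.2 (by rwa [show g⁻¹ * (g * k * g⁻¹) * g = k by group])) s2 s1 hs fun e =>
    hg (h.ti g k hk (by simpa [conj_mul] using s2) (fun e => s1 (by simp [e])) e)

end Cfsg.Agent.LT
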