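import Cfsg.Agent.LT.SY
import Cfsg.Agent.LT.NR1
import Cfsg.Agent.S1853
import Cfsg.Agent.STD.Top

set_option autoImplicit false

namespace Cfsg.Agent.LT

open Subgroup H29 LS
open scoped commutatorElement

namespace Dat

variable {G : Type*} [Group G] [Finite G] {δ : Dat G}

/-- the even elements of a subgroup of `N(Z) ∩ C(z)` -/
def Hp.nrT {g τ : G} (h : δ.Hp g τ) (S : Subgroup G) (hS : ∀ s ∈ S, δ.MM s) : Subgroup G where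
  carrier := {s | s ∈ S ∧ δ.Ev τ s}
  mul_mem' := fun ⟨a, a'⟩ ⟨b, b'⟩ =>
    ⟨mul_mem a b, (h.ev_mul (hS _ a) (hS _ b)).2 (iff_of_true a' b')⟩
  one_mem' := ⟨one_mem _, by
    have := (h.ev_mul (hS 1 (one_mem _)) (hS 1 (one_mem _))).2 Iff.rfl
    rwa [one_mul] at this⟩
  inv_mem' := fun {x} ⟨a, a'⟩ => ⟨inv_mem a, by
    have := (h.ev_mul (hS 1 (one_mem _)) (hS 1 (one_mem _))).2 Iff.rfl
    rw [one_mul, ← mul_inv_cancel x] at this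
    exact ((h.ev_mul (hS _ a) (hS _ (inv_mem a))).1 this).1 a'⟩

omit [Finite G] in
/-- the subgroup `R` -/
def CI.nrR (h : δ.CI) (m : G) : Subgroup G where
  carrier := {x | ∃ ρ, x = m * δ.r ρ * m⁻¹}
  mul_mem' := by
    rintro _ _ ⟨a, rfl⟩ ⟨b, rfl⟩
    exact ⟨a + b, by rw [h.1.ok.radd a b (Or.inl h.2) (Or.inl h.2)]; group⟩
  one_mem' := ⟨0, by rw [h.1.ok.r_zero]; group⟩
  inv_mem' := by
    rintro _ ⟨a, rfl⟩
    refine ⟨a, inv_eq_of_mul_eq_one_right ?_⟩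
    rw [show m * δ.r a * m⁻¹ * (m * δ.r a * m⁻¹) = m * (δ.r a * δ.r a) * m⁻¹ by group,
      h.1.ok.r_sq (Or.inl h.2)]
    group

theorem Hp.fn [IsSimpleGroup G] {g τ : G} (h : δ.Hp g τ) : δ.Fn g τ := by
  have ok := h.toH0.c_ok
  have lam := h.toH0.c_lam
  have : Fact (Nat.Prime 2) := ⟨Nat.prime_two⟩
  refine ⟨h, fun n hn => ?_⟩
  obtain ⟨i, a | a⟩ := h.ci.cls hn (h.toH0.z2 hn.nz)
  · exact ⟨i, a⟩
  exfalso
  obtain ⟨γ, r⟩ := h.ci.exists_Rf hn a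
  have nid : ¬ δ.Ac γ id := fun e =>
    absurd (ok.Ac_uniq e r.ac (v := (1, 0, 0, 0)) (lam _)) (by decide)
  have γ1 : γ ≠ 1 := fun e => nid (e ▸ δ.c_ac_one)
  have o2 : orderOf γ = 2 := orderOf_eq_prime (by rw [pow_two, r.sq]) γ1
  have cz : δ.CZ γ := fun c => by
    have := r.gr (u 0 0 c)
    rw [gr_u, mul_zero, add_zero] at this
    exact mul_inv_eq_iff_eq_mul.1 this
  obtain ⟨S, γS, -, hS⟩ := h.sy (Y := zpowers γ)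
    (STD.isPGroup_zpowers (k := 1) (by rw [pow_one, pow_two, r.sq])) (zpowers_le.2 (show
      γ ∈ ok.MMg from cz.mm))
  have γS' : γ ∈ S := γS (mem_zpowers γ)
  have ix : ((h.nrT S hS).subgroupOf (S : Subgroup G)).index = 2 :=
    index_eq_two_iff.2 ⟨⟨γ, γS'⟩, fun b => by
      have e := h.ev_mul (hS _ b.2) cz.mm
      have e' := h.ev_swp cz r.ac
      by_cases c : δ.Ev τ b
      · exact Or.inr ⟨⟨b.2, c⟩, fun x => e' ((e.1 x.2).1 c)⟩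
      · exact Or.inl ⟨⟨mul_mem b.2 γS', e.2 (iff_of_false c e')⟩, fun x => c x.2⟩⟩
  have := normal_of_index_eq_two ix
  obtain ⟨g1, ⟨iS, iE⟩, -⟩ := S1853.main ok.comm_top S (h.nrT S hS) (fun _ x => x.1)
    (isCyclic_of_prime_card (p := 2) ix) γ o2 γS' (fun x => h.ev_swp cz r.ac x.2) ⊥
    IsPGroup.of_bot bot_le
  have cj2 : ∀ m x : G, x * x = 1 → m * x * m⁻¹ * (m * x * m⁻¹) = 1 := fun m x e => by
    rw [show m * x * m⁻¹ * (m * x * m⁻¹) = m * (x * x) * m⁻¹ by group, e]; group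
  have cj1 : ∀ m x : G, x ≠ 1 → m * x * m⁻¹ ≠ 1 := fun m x e e' => e (by simpa using e')
  obtain ⟨g2, e2⟩ : ∃ g2, g2 * γ * g2⁻¹ = δ.z := by
    have nd : ¬ DD δ.ι (g1 * γ * g1⁻¹) := fun d => h.toH0.Rf_ndd r (by
      have := d.conj g1⁻¹
      rwa [show g1⁻¹ * (g1 * γ * g1⁻¹) * g1⁻¹⁻¹ = γ by group] at this)
    have k : ∀ m, g1 * γ * g1⁻¹ = m * δ.z * m⁻¹ → ∃ g2, g2 * γ * g2⁻¹ = δ.z := fun m e =>
      ⟨m⁻¹ * g1, by rw [show m⁻¹ * g1 * γ * (m⁻¹ * g1)⁻¹ = m⁻¹ * (g1 * γ * g1⁻¹) * m by group, e]; group⟩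
    rcases h.cl (cj2 g1 γ r.sq) (cj1 g1 γ γ1) (hS _ iS) iE with a | ⟨-, ⟨v, a⟩ | ⟨m, v, -, e⟩⟩
    · exact absurd a.1 nd
    · obtain ⟨m, -, e⟩ := h.ci.conj_z a (cj2 g1 γ r.sq) (cj1 g1 γ γ1) nd
      exact k m e
    · obtain ⟨m', -, e'⟩ := h.tau_z
      exact k (m * m') (by rw [e, e']; group)
  have sy : H91.SylIn 2 (S : Subgroup G) (centralizer ({δ.z} : Set G)) :=
    (H91.sylIn_top S).of_le (fun s hs => mem_centralizer_singleton_iff.2 (hS s hs).2) le_top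
  obtain ⟨a, ha, hr⟩ := sy.exists_conj_mem (H := h.ci.nrR g2) (by
      rintro ⟨_, ρ, rfl⟩
      exact ⟨1, Subtype.ext (by
        rw [pow_one, pow_two]; exact cj2 _ _ (ok.r_sq (lam ρ)))⟩) (by
      rintro _ ⟨ρ, rfl⟩
      rw [mem_centralizer_singleton_iff, ← e2]
      calc g2 * δ.r ρ * g2⁻¹ * (g2 * γ * g2⁻¹) = g2 * (δ.r ρ * γ) * g2⁻¹ := by group
        _ = _ := by rw [← (r.cr ρ).eq]; group)
  have e3 : a * g2 * γ * (a * g2)⁻¹ = δ.z := by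
    rw [show a * g2 * γ * (a * g2)⁻¹ = a * (g2 * γ * g2⁻¹) * a⁻¹ by group, e2,
      mem_centralizer_singleton_iff.1 ha, mul_inv_cancel_right]
  have rS : ∀ ρ, a * g2 * δ.r ρ * (a * g2)⁻¹ ∈ S := fun ρ => by
    have := hr _ ⟨ρ, rfl⟩
    rwa [show a * (g2 * δ.r ρ * g2⁻¹) * a⁻¹ = a * g2 * δ.r ρ * (a * g2)⁻¹ by group] at this
  generalize a * g2 = m at e3 rS
  obtain ⟨ρ, ρ0, ev⟩ : ∃ ρ, ρ ≠ 0 ∧ δ.Ev τ (m * δ.r ρ * m⁻¹) := by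
    by_cases c1 : δ.Ev τ (m * δ.r 1 * m⁻¹)
    · exact ⟨1, one_ne_zero, c1⟩
    by_cases c2 : δ.Ev τ (m * δ.r ω * m⁻¹)
    · exact ⟨ω, by decide, c2⟩
    refine ⟨1 + ω, by decide, ?_⟩
    have := (h.ev_mul (hS _ (rS 1)) (hS _ (rS ω))).2 (iff_of_false c1 c2)
    rwa [show m * δ.r 1 * m⁻¹ * (m * δ.r ω * m⁻¹) = m * (δ.r 1 * δ.r ω) * m⁻¹ by group,
      ← ok.radd 1 ω (lam _) (lam _)] at this
  have r2 := ok.r_sq (lam ρ)
  have r1 := ok.rne ρ (lam ρ) ρ0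
  rcases h.cl (cj2 m _ r2) (cj1 m _ r1) (hS _ (rS ρ)) ev with ⟨-, m', k, p, hp⟩ | ⟨nd, -⟩
  · have hN : m' * m ∈ Nn δ.ι := ok.hy.ti _ _ (ok.rK ρ) r2 r1 (by
      rwa [show m' * m * δ.r ρ * (m' * m)⁻¹ = m' * (m * δ.r ρ * m⁻¹) * m'⁻¹ by group])
    obtain ⟨β, hβ⟩ := ok.hy.aut (inv_mem hN)
    have e : γ = δ.ι (β p) := by rw [← hβ, hp, ← e3]; group
    obtain ⟨a, b, c, e'⟩ := cent_z2 (p := β p) (ok.hy.inj (by
      rw [map_mul, map_mul, ← e]; exact (cz 1).eq)) (n := 1) (ok.hy.inj (by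
      rw [pow_one, pow_two, map_mul, ← e, r.sq, map_one]))
    exact nid (by rw [e, e']; exact ok.InD_ac (ok.InD_U a b c))
  · exact nd (DD.conj ⟨r2, r1, 1, by rw [one_mul, inv_one, mul_one]; exact ok.rK ρ⟩ m)

end Dat

end Cfsg.Agent.LT
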