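import Cfsg.Agent.LT.Q
import Cfsg.Agent.LT.QN1
import Cfsg.Agent.LT.SY
import Cfsg.Agent.STD.Top

/-! Project LS (notes/LX.md): `Qg` is normal in `C(z)`. -/

set_option autoImplicit false

namespace Cfsg.Agent.LT

open Subgroup H29 LS
open scoped commutatorElement

namespace Dat

variable {G : Type*} [Group G] [Finite G] {δ : Dat G}

theorem Fn.norm {g τ : G} (h : δ.Fn g τ) {n : G} (c : Commute n δ.z) :
    n ∈ normalizer (δ.Qg : Set G) := by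
  have ok := h.ci.1.ok
  have ex := h.ex
  obtain ⟨S, -, -, hS⟩ := h.toHp.sy (Y := ⊥) IsPGroup.of_bot fun y hy => by
    rw [mem_bot.1 hy]; exact CZ.mm fun _ => Commute.one_left _
  have mY : ∀ {y}, y ∈ centralizer {δ.z} ↔ Commute y δ.z := mem_centralizer_singleton_iff
  have hSH : (S : Subgroup G) ≤ centralizer {δ.z} ⊓ normalizer (δ.Qg : Set G) := fun s hs =>
    ⟨mY.2 (hS s hs).2, ok.MM_Q (hS s hs)⟩
  have cj : ∀ x ∈ centralizer {δ.z} ⊓ normalizer (δ.Qg : Set G), x ^ 2 ^ 2 = 1 →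
      ∃ m ∈ centralizer {δ.z} ⊓ normalizer (δ.Qg : Set G), δ.MM (m * x * m⁻¹) := fun x hx x4 => by
    obtain ⟨m, hm, e⟩ := STD.exists_conj_mem ((H91.sylIn_top S).of_le hSH le_top) hx x4
    exact ⟨m, hm, hS _ e⟩
  have four : ∀ x : G, x * x = 1 ∨ x * x = δ.z → x ^ 2 ^ 2 = 1 := fun x hx => by
    rw [show 2 ^ 2 = 2 + 2 from rfl, pow_add, pow_two]
    rcases hx with hx | hx <;> rw [hx]
    exacts [mul_one 1, ex.sq]
  have nQ : ∀ {m q}, m ∈ normalizer (δ.Qg : Set G) → (q ∈ δ.Qg ↔ m * q * m⁻¹ ∈ δ.Qg) := fun hm =>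
    mem_normalizer_iff.1 hm _
  have uQ : ∀ a c, a * a = a → δ.U a 0 c ∈ δ.Qg := fun a c e =>
    h.mem_Qg.2 ⟨_, by simp [sg, e], Or.inl (ok.InD_U a 0 c)⟩
  have w1 : δ.C ω ≠ 1 := fun e => absurd (ok.C_inj (e.trans δ.C_zero.symm)) (by decide)
  have wz : δ.C ω ≠ δ.z := fun e => absurd (ok.C_inj e) (by decide)
  by_contra hn
  obtain ⟨R, hZ, hR, h1, h2⟩ := FP (Y := centralizer {δ.z})
    (H := centralizer {δ.z} ⊓ normalizer (δ.Qg : Set G)) (A := δ.Qg) (Z := zpowers δ.z)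
    (zpowers_le_of_mem ex.mem) (fun a ha => ⟨mY.2 (ex.cen a ha), le_normalizer ha⟩) inf_le_left
    (by rintro y hy _ ⟨k, rfl⟩; exact (mY.1 hy).zpow_right k) (fun n hn a ha => (nQ hn.2).1 ha)
    (fun a ha => by
      rcases ex.sqr a ha with e | e <;> rw [e]
      exacts [one_mem _, mem_zpowers _])
    {s | s ∈ δ.Qg ∧ s * s = 1 ∧ s ≠ 1 ∧ s ≠ δ.z} (fun s hs => hs.1)
    (by
      rintro s ⟨hs, s2, s1, sz⟩ y hy hy'
      obtain ⟨n, nz, nN, rfl⟩ := h.trans hs s2 s1 sz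
      obtain ⟨m, hm, mm⟩ := cj _ hy' (four _ (Or.inl (by rw [conj_mul, s2, mul_one, mul_inv_cancel])))
      have cz : Commute (m * y * n) δ.z := ((mY.1 hm.1).mul_left (mY.1 hy)).mul_left nz
      rw [show m * (y * (n * δ.C ω * n⁻¹) * y⁻¹) * m⁻¹ = m * y * n * δ.C ω * (m * y * n)⁻¹ by group] at mm
      have nd : ¬ DD δ.ι (m * y * n * δ.C ω * (m * y * n)⁻¹) := ok.nDD_L _ _
      have u2 : m * y * n * δ.C ω * (m * y * n)⁻¹ * (m * y * n * δ.C ω * (m * y * n)⁻¹) = 1 := by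
        rw [conj_mul, C_sq, mul_one, mul_inv_cancel]
      have hu : m * y * n * δ.C ω * (m * y * n)⁻¹ ∈ δ.Qg := by
        rcases ((h.toHp.cl u2 (by rwa [Ne, conj_eq_one_iff]) mm (h.ev mm)).resolve_left
          fun h' => nd h'.1).2 with ⟨v, hv⟩ | ⟨m', v, hv, e⟩
        · rcases h.ci.qn1_nv hv u2 nd with rfl | nv
          · obtain ⟨c, e⟩ := ok.InD_zero hv
            exact e ▸ uQ 0 c (mul_zero _)
          · obtain ⟨m2, a, c, -, z2, -, a0, e⟩ := h.ci.G3 hv nv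
            obtain rfl := h.hyp ((z2 1).mul_left cz) a0 (by rw [← e]; group)
            exact (nQ (ok.MM_Q z2.mm)).2 (e ▸ uQ 1 c (mul_one _))
        · rw [e]
          exact (nQ (ok.MM_Q (ok.InD_cz hv).mm)).1 (h.mem_Qg.2 ⟨0, by decide, Or.inr (by
            rw [h.toHp.sq, ← δ.C_zero]; exact ok.InD_C 0)⟩)
      refine mem_inf.2 ⟨hy, ?_⟩
      have := mul_mem (mul_mem (inv_mem (mem_inf.1 hm).2) (h.qu cz hu)) (inv_mem nN)
      simpa [mul_assoc] using this)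
    (fun a ha y hy hy' => by
      obtain ⟨m, hm, mm⟩ := cj _ hy' (by rw [conj_pow, four a (ex.sqr a ha), mul_one, mul_inv_cancel])
      have mz : m⁻¹ * δ.z * m = δ.z := by rw [mul_assoc, ← (mY.1 hm.1).eq, inv_mul_cancel_left]
      refine Or.inl ⟨m⁻¹ * δ.C ω * m⁻¹⁻¹, ⟨(nQ (inv_mem hm.2)).1 (uQ 0 ω (mul_zero _)),
        by rw [conj_mul, C_sq, mul_one, mul_inv_cancel], by rwa [Ne, conj_eq_one_iff], fun e => wz ?_⟩, ?_⟩
      · rw [← mz, inv_inv] at e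
        simpa using e
      · have e : ⁅m⁻¹ * δ.C ω * m⁻¹⁻¹, y * a * y⁻¹⁆ = m⁻¹ * (δ.C ω * (m * (y * a * y⁻¹) * m⁻¹ * (δ.C ω)⁻¹ *
            (m * (y * a * y⁻¹) * m⁻¹)⁻¹)) * m := by rw [commutatorElement_def]; group
        rw [e, C_inv]
        rcases ok.MM_cases mm with h' | h'
        · rw [(h' ω).eq, mul_inv_cancel_right, C_sq]
          simp
        · rw [h', ← C_add, show ω + ω * ω = 1 by decide]
          exact mz.symm ▸ mem_zpowers _)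
    fun le => hn (le (mY.2 c)).2
  refine EX_fp ex h.card_Qg (hZ (mem_zpowers _)) hR (fun s hs s2 => ?_) fun a ha b hb ha' hb' => ?_
  · by_contra! hc
    exact h1 s ⟨hR hs, s2, hc.1, hc.2⟩ hs
  · obtain ⟨n, hn, e1, e2⟩ := h2 a ha b hb ha' hb'
    exact ⟨n, mY.1 hn.1, fun q hq => (nQ hn.2).1 hq, e1, e2⟩

end Dat

end Cfsg.Agent.LT
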